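import Cfsg.Agent.Lib.Pron.SL2
import Cfsg.Agent.Lib.Pron.Geo2

/-!
The monomial group `SL₂ ≀ Sₙ` in `Sp₂ₙ` and the Sylow `2`-subgroups in odd characteristic.
-/

set_option autoImplicit false

namespace Cfsg.Agent.Pron

open Matrix Subgroup Forms Module Equiv
open scoped MatrixGroups

attribute [-simp] mulVec_fin_two

variable {F : Type*} [Field F] {ι : Type} [Fintype ι] [DecidableEq ι]

/-- the symplectic plane -/
def om (F : Type*) [Field F] : Form (Param.sp F) (Fin 2 → F) :=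
  Form.ofAlt (LinearMap.mk₂ F (fun u v => u 0 * v 1 - u 1 * v 0) (fun _ _ _ => by simp; ring)
    (fun _ _ _ => by simp; ring) (fun _ _ _ => by simp; ring) fun _ _ _ => by simp; ring)
    fun x => by simp [mul_comm]

theorem om_B (u v : Fin 2 → F) : (om F).B u v = u 0 * v 1 - u 1 * v 0 := rfl

theorem om_mulVec (a : Matrix (Fin 2) (Fin 2) F) (u v : Fin 2 → F) :
    (om F).B (a *ᵥ u) (a *ᵥ v) = a.det * (om F).B u v := by
  simp [om_B, mulVec_fin_two, det_fin_two]; ring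

theorem om_nondeg : (om F).Nondeg := fun x h => by
  have h0 := h ![0, 1]
  have h1 := h ![1, 0]
  ext i
  fin_cases i <;> simp_all [om_B]

/-- the orthogonal sum of symplectic planes -/
abbrev ff (ι : Type) [Fintype ι] (F : Type*) [Field F] : Form (Param.sp F) (ι → Fin 2 → F) :=
  Form.pi fun _ => om F

omit [DecidableEq ι] in
theorem ff_nondeg : (ff ι F).Nondeg := Form.pi_nondeg fun _ => om_nondeg

theorem ff_single (i : ι) (u : Fin 2 → F) (v : ι → Fin 2 → F) :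
    (ff ι F).B (Pi.single i u) v = (om F).B u (v i) := by
  rw [Form.pi_B, Finset.sum_eq_single i (fun k _ hk => by simp [hk]) (by simp), Pi.single_eq_same]

/-- monomial elements -/
noncomputable def mon (a : ι → SL(2, F)) (σ : Perm ι) : (ff ι F).Isom :=
  Form.Isom.ofEnd ff_nondeg (LinearMap.pi fun k => (a k).1.mulVecLin ∘ₗ LinearMap.proj (σ⁻¹ k))
    (Form.sp_isIsom fun x y => by
      simp only [Form.pi_B, LinearMap.pi_apply, LinearMap.comp_apply, mulVecLin_apply, om_mulVec,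
        fun k => (a k).2, one_mul]
      exact Equiv.sum_comp σ⁻¹ fun k => (om F).B (x k) (y k))

omit [DecidableEq ι] in
theorem mon_apply (a : ι → SL(2, F)) (σ : Perm ι) (v : ι → Fin 2 → F) (k : ι) :
    (mon a σ).1 v k = (a k).1 *ᵥ v (σ⁻¹ k) := rfl

omit [DecidableEq ι] in
theorem mon_mul (a b : ι → SL(2, F)) (σ τ : Perm ι) :
    mon a σ * mon b τ = mon (fun k => a k * b (σ⁻¹ k)) (σ * τ) :=
  Form.Isom.ext fun v => funext fun k => by simp [mon_apply]

omit [DecidableEq ι] in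
theorem mon_one : mon (1 : ι → SL(2, F)) 1 = 1 :=
  Form.Isom.ext fun v => funext fun k => by simp [mon_apply]

omit [DecidableEq ι] in
theorem mon_inv (a : ι → SL(2, F)) (σ : Perm ι) :
    (mon a σ)⁻¹ = mon (fun k => (a (σ k))⁻¹) σ⁻¹ :=
  inv_eq_of_mul_eq_one_right (by rw [mon_mul, ← mon_one]; congr 1 <;> ext <;> simp)

theorem mon_single (a : ι → SL(2, F)) (σ : Perm ι) (i : ι) (u : Fin 2 → F) :
    (mon a σ).1 (Pi.single i u) = Pi.single (σ i) ((a (σ i)).1 *ᵥ u) := funext fun k => by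
  obtain ⟨k, rfl⟩ := σ.surjective k
  by_cases h : k = i <;> simp [mon_apply, h]

theorem SL_eq_of_mulVec {a b : SL(2, F)} (h : ∀ u, a.1 *ᵥ u = b.1 *ᵥ u) : a = b :=
  Subtype.ext (toLin'.injective (LinearMap.ext h))

theorem SL_mulVec_eq_zero {a : SL(2, F)} {u : Fin 2 → F} (h : a.1 *ᵥ u = 0) : u = 0 := by
  simpa [adjugate_mul] using congrArg ((a⁻¹).1 *ᵥ ·) h

theorem mon_inj {a b : ι → SL(2, F)} {σ τ : Perm ι} (h : mon a σ = mon b τ) : a = b ∧ σ = τ := by
  have h1 : ∀ i u, (Pi.single (σ i) ((a (σ i)).1 *ᵥ u) : ι → Fin 2 → F) =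
      Pi.single (τ i) ((b (τ i)).1 *ᵥ u) := fun i u => by rw [← mon_single, ← mon_single, h]
  obtain rfl : σ = τ := Equiv.ext fun i => by_contra fun e => one_ne_zero (α := Fin 2 → F)
    (SL_mulVec_eq_zero (by simpa [e] using congrFun (h1 i 1) (σ i)))
  refine ⟨funext fun k => SL_eq_of_mulVec fun u => ?_, rfl⟩
  simpa using congrFun (h1 (σ⁻¹ k) u) k

/-- block diagonal elements -/
noncomputable def dgm : (ι → SL(2, F)) →* (ff ι F).Isom :=
  MonoidHom.mk' (mon · 1) fun a b => by rw [mon_mul]; rfl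

/-- the embedding of `SL₂` at one coordinate -/
noncomputable def ex (i : ι) : SL(2, F) →* (ff ι F).Isom := dgm.comp (MonoidHom.mulSingle (fun _ => SL(2, F)) i)

theorem ex_eq (i : ι) (a : SL(2, F)) : ex i a = mon (Pi.mulSingle i a) 1 := rfl

theorem ex_apply (i : ι) (a : SL(2, F)) (v : ι → Fin 2 → F) :
    (ex i a).1 v = v + Pi.single i (a.1 *ᵥ v i - v i) := funext fun k => by
  by_cases h : k = i <;> simp [ex_eq, mon_apply, h]

/-- projection to one coordinate plane -/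
def pj (i : ι) : End F (ι → Fin 2 → F) := LinearMap.single F _ i ∘ₗ LinearMap.proj i

theorem pj_apply (i : ι) (v : ι → Fin 2 → F) : pj i v = Pi.single i (v i) := rfl

theorem cj_mon (a : ι → SL(2, F)) (σ : Perm ι) (i : ι) : cj (mon a σ) (pj i) = pj (σ i) :=
  LinearMap.ext fun v => by simp [cj_apply, pj_apply, mon_single, mon_inv, mon_apply, mul_adjugate]

theorem exists_res {l : (ff ι F).Isom} {i k : ι} (h : cj l (pj i) = pj k) :
    ∃ a : SL(2, F), (∀ u, l.1 (Pi.single i u) = Pi.single k (a.1 *ᵥ u)) ∧ (∀ v, l.1 v k = a.1 *ᵥ v i) ∧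
      ∀ b, l * ex i b * l⁻¹ = ex k (a * b * a⁻¹) := by
  have h1 : ∀ v, l.1 (Pi.single i (v i)) = Pi.single k (l.1 v k) := fun v => by
    simpa [cj_apply, pj_apply] using LinearMap.congr_fun h (l.1 v)
  let M := LinearMap.toMatrix' (LinearMap.proj k ∘ₗ (l.1 : (ι → Fin 2 → F) →ₗ[F] (ι → Fin 2 → F)) ∘ₗ
    LinearMap.single F (fun _ => Fin 2 → F) i)
  have h2 : ∀ u, l.1 (Pi.single i u) = Pi.single k (M *ᵥ u) := fun u => by
    simpa [M, ← toLin'_apply] using h1 (Pi.single i u)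
  have h3 : M.det = 1 := by
    have := Form.Isom.map_B l (Pi.single i ![1, 0]) (Pi.single i ![0, 1])
    rw [h2, h2, ff_single, ff_single, Pi.single_eq_same, om_mulVec] at this
    simpa [om_B] using this
  have h4 : ∀ v, l.1 v k = M *ᵥ v i := fun v => by simpa [h2] using (congrFun (h1 v) k).symm
  refine ⟨⟨M, h3⟩, h2, h4, fun b => mul_inv_eq_iff_eq_mul.2 (Form.Isom.ext fun v => ?_)⟩
  obtain ⟨a, ha, e⟩ : ∃ a : SL(2, F), a.1 = M ∧ ⟨M, h3⟩ = a := ⟨_, rfl, rfl⟩
  rw [Form.Isom.mul_apply, Form.Isom.mul_apply, ex_apply, ex_apply, map_add, h2, h4, mulVec_sub,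
    e, ← ha, mulVec_mulVec, mulVec_mulVec, ← SL2.SL_coe_mul,
    ← SL2.SL_coe_mul, inv_mul_cancel_right]

theorem pj_inj {i k : ι} (h : (pj i : End F _) = pj k) : i = k := by_contra fun e =>
  one_ne_zero (α := Fin 2 → F) (by simpa [pj_apply, e] using congrFun (LinearMap.congr_fun h 1) i)

theorem exists_mon {l : (ff ι F).Isom} (h : ∀ i, ∃ k, cj l (pj i) = pj k) : ∃ a σ, l = mon a σ := by
  choose s hs using h
  let σ := Equiv.ofBijective s (Finite.injective_iff_bijective.1 fun i k e =>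
    pj_inj ((cj l).injective ((hs i).trans (e ▸ (hs k).symm))))
  choose a ha using fun k => exists_res (hs (σ⁻¹ k))
  exact ⟨a, σ, Form.Isom.ext fun v => funext fun k => by
    rw [mon_apply, ← (ha k).2.1]; exact congrArg _ (σ.apply_symm_apply k).symm⟩

/-- the wreath product -/
def wr (Q : Subgroup SL(2, F)) (T : Subgroup (Perm ι)) : Subgroup (ff ι F).Isom where
  carrier := {g | ∃ a σ, (∀ k, a k ∈ Q) ∧ σ ∈ T ∧ g = mon a σ}
  one_mem' := ⟨1, 1, fun _ => one_mem _, one_mem _, mon_one.symm⟩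
  mul_mem' := by
    rintro _ _ ⟨a, σ, ha, hσ, rfl⟩ ⟨b, τ, hb, hτ, rfl⟩
    exact ⟨_, _, fun k => mul_mem (ha k) (hb _), mul_mem hσ hτ, mon_mul ..⟩
  inv_mem' := by
    rintro _ ⟨a, σ, ha, hσ, rfl⟩
    exact ⟨_, _, fun k => inv_mem (ha _), inv_mem hσ, mon_inv ..⟩

theorem mon_mem_wr {Q : Subgroup SL(2, F)} {T : Subgroup (Perm ι)} {a : ι → SL(2, F)} {σ : Perm ι} :
    mon a σ ∈ wr Q T ↔ (∀ k, a k ∈ Q) ∧ σ ∈ T :=
  ⟨fun ⟨_, _, ha, hσ, e⟩ => by obtain ⟨rfl, rfl⟩ := mon_inj e; exact ⟨ha, hσ⟩,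
    fun h => ⟨a, σ, h.1, h.2, rfl⟩⟩

theorem ex_mem_wr {Q : Subgroup SL(2, F)} {T : Subgroup (Perm ι)} {a : SL(2, F)} {i : ι} :
    ex i a ∈ wr Q T ↔ a ∈ Q :=
  mon_mem_wr.trans ⟨fun h => by simpa using h.1 i, fun h => ⟨fun k => by
    by_cases e : k = i <;> simp [e, h, one_mem], one_mem _⟩⟩

theorem card_wr (Q : Subgroup SL(2, F)) (T : Subgroup (Perm ι)) :
    Nat.card (wr Q T) = Nat.card Q ^ Fintype.card ι * Nat.card T := by
  rw [← Nat.card_eq_fintype_card, ← Nat.card_fun, ← Nat.card_prod]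
  refine (Nat.card_eq_of_bijective (fun x : (ι → Q) × T => (⟨mon (fun k => x.1 k) x.2,
    mon_mem_wr.2 ⟨fun k => (x.1 k).2, x.2.2⟩⟩ : wr Q T)) ⟨fun x y h => ?_, ?_⟩).symm
  · obtain ⟨h1, h2⟩ := mon_inj (congrArg Subtype.val h)
    exact Prod.ext (funext fun k => Subtype.ext (congrFun h1 k)) (Subtype.ext h2)
  · rintro ⟨_, a, σ, ha, hσ, rfl⟩
    exact ⟨(fun k => ⟨a k, ha k⟩, ⟨σ, hσ⟩), rfl⟩

theorem v2_prod {q : ℕ} (hq : 1 < q) (ho : Odd q) (n : ℕ) :
    padicValNat 2 (∏ i ∈ Finset.range n, (q ^ (2 * (i + 1)) - 1)) =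
      n * padicValNat 2 (q ^ 2 - 1) + padicValNat 2 n.factorial := by
  have h0 : ∀ i : ℕ, q ^ (2 * (i + 1)) - 1 ≠ 0 := fun i =>
    Nat.sub_ne_zero_of_lt (Nat.one_lt_pow (by omega) hq)
  induction n with
  | zero => simp
  | succ n ih =>
    have h1 := GLn.v2_pow_sub_one hq ho (i := 2 * (n + 1)) (by omega)
    have h2 := GLn.v2_pow_sub_one hq ho (i := 2) (by omega)
    rw [padicValNat.mul (by omega) (by omega), if_pos (by omega), if_pos (by omega)] at h1
    rw [if_pos (by omega), if_pos (by omega)] at h2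
    rw [Finset.prod_range_succ, padicValNat.mul (Finset.prod_ne_zero_iff.2 fun i _ => h0 i) (h0 n),
      ih, Nat.factorial_succ, padicValNat.mul (by omega) n.factorial_ne_zero, add_mul]
    omega

theorem exists_sylow_wr [Finite F] (ho : Odd (Nat.card F)) (Q : Sylow 2 SL(2, F))
    (T : Sylow 2 (Perm ι)) : ∃ S : Sylow 2 (ff ι F).Isom, (S : Subgroup (ff ι F).Isom) = wr Q T := by
  have h1 : 1 < Nat.card F := Finite.one_lt_card
  have h2 : padicValNat 2 (Nat.card F) = 0 := padicValNat.eq_zero_of_not_dvd (Nat.two_dvd_ne_zero.2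
    (Nat.odd_iff.1 ho))
  haveI : Finite (ff ι F).Isom := Finite.of_injective (fun g => (g.1 : (ι → Fin 2 → F) → _))
    fun g h e => Form.Isom.ext (congrFun e)
  refine ⟨Sylow.ofCard (wr Q T) ?_, rfl⟩
  rw [card_wr, Q.card_eq_multiplicity, T.card_eq_multiplicity, ← pow_mul, ← pow_add,
    ff_nondeg.card_sp (n := Fintype.card ι) (by simp [finrank_pi_fintype, mul_comm]), SL2.card_SL2,
    Nat.factorization_def _ Nat.prime_two, Nat.factorization_def _ Nat.prime_two,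
    Nat.factorization_def _ Nat.prime_two, padicValNat.mul (by omega)
      (Nat.sub_ne_zero_of_lt (Nat.one_lt_pow (by omega) h1)), padicValNat.mul (by positivity)
      (Finset.prod_ne_zero_iff.2 fun i _ => Nat.sub_ne_zero_of_lt (Nat.one_lt_pow (by omega) h1)),
    padicValNat.pow, v2_prod h1 ho, h2, Nat.card_perm, Nat.card_eq_fintype_card (α := ι)]
  congr 1; ring

omit [DecidableEq ι] in
theorem sylow_transitive {k : ℕ} (hι : Fintype.card ι = 2 ^ k) (T : Sylow 2 (Perm ι)) (i j : ι) :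
    ∃ σ ∈ (T : Subgroup (Perm ι)), σ i = j := by
  have h1 := index_dvd_of_le (inf_le_left (a := MulAction.stabilizer (Perm ι) i) (b := T))
  rw [MulAction.index_stabilizer_of_transitive, ← relIndex_mul_index inf_le_right, inf_relIndex_right,
    Nat.card_eq_fintype_card, hι] at h1
  have h2 := (Nat.Coprime.pow_left k ((Nat.Prime.coprime_iff_not_dvd Nat.prime_two).2
    T.not_dvd_index)).dvd_of_dvd_mul_right h1
  change _ ∣ (MulAction.stabilizer (T : Subgroup (Perm ι)) i).index at h2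
  rw [MulAction.index_stabilizer, ← hι] at h2
  obtain ⟨σ, hσ⟩ : j ∈ MulAction.orbit (T : Subgroup (Perm ι)) i := by
    rw [Set.eq_of_subset_of_ncard_le (Set.subset_univ (MulAction.orbit (T : Subgroup (Perm ι)) i)) (by
      rw [Set.ncard_univ, Nat.card_eq_fintype_card]
      exact Nat.le_of_dvd ((Set.ncard_pos (Set.toFinite _)).2 (MulAction.nonempty_orbit i)) h2)]
    trivial
  exact ⟨σ, σ.2, hσ⟩

end Cfsg.Agent.Pron
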