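import Cfsg.Agent.Lib.Pron.Over

/-!
The normaliser of a Sylow `2`-subgroup of `Sp₂ₘ(q)`, `m = 2ᵏ`, and its action on overgroups.
-/

set_option autoImplicit false

namespace Cfsg.Agent.Pron

open Matrix Subgroup Forms Module Equiv
open scoped MatrixGroups

attribute [-simp] mulVec_fin_two

variable {F : Type*} [Field F] [Finite F] {ι : Type} [Fintype ι] [DecidableEq ι]
  {Q : Sylow 2 SL(2, F)} {k : ℕ}

theorem normalizer_wr (h2 : (2 : F) ≠ 0) (hι : Fintype.card ι = 2 ^ k) (T : Sylow 2 (Perm ι))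
    {n : (ff ι F).Isom} (hn : n ∈ normalizer ((wr Q T : Subgroup (ff ι F).Isom) : Set (ff ι F).Isom)) :
    ∃ a σ, n = mon a σ ∧ σ ∈ (T : Subgroup (Perm ι)) ∧
      (∀ i, a i ∈ normalizer ((Q : Subgroup SL(2, F)) : Set SL(2, F))) ∧
      ∀ i j, a i * (a j)⁻¹ ∈ (Q : Subgroup SL(2, F)) := by
  replace hn := fun x => (mem_normalizer_iff.1 hn x).1
  obtain ⟨a, σ, rfl⟩ := exists_mon (l := n) fun i => by
    obtain ⟨a, σ, -, -, e⟩ := hn _ ((ex_mem_wr (i := i)).2 (neg_one_mem_sylow Q))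
    refine (swap_or h2 ((pl_pj i).cj n) (a := a) (σ := σ) (by
      rw [← e, ← cj_en, en_z, map_sub, map_one, map_smul])).resolve_right fun ⟨j, hj, h1⟩ => ?_
    obtain ⟨u, hu, h3⟩ := exists_sq_neg_one Q
    obtain ⟨b, ρ, -, -, e'⟩ := hn _ ((ex_mem_wr (i := i)).2 hu)
    obtain rfl : ρ * ρ = σ := (mon_inj ((mon_mul ..).symm.trans (by
      rw [← e, ← e', conj_mul, ← map_mul, h3]))).2
    have a1 : ρ j ≠ j := fun h => hj (by rw [Perm.mul_apply, h, h])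
    have a2 : pj (ρ j) * cj n (pj i) = 0 := smul_right_injective _ h2 (by
      have := cj_eq.1 (cj_mon a (ρ * ρ) j)
      simp only [← mul_smul_comm, h1, sub_mul, this, one_mul, mul_sub, ← mul_assoc, pj_mul a1,
        pj_mul (show ρ j ≠ (ρ * ρ) j from ρ.injective.ne a1.symm), zero_mul, sub_self, smul_zero])
    refine (pl_pj (F := F) (ρ j)).ne_zero ((cj_mon b ρ j).symm.trans (cj_eq.2 ?_))
    rw [← (pl_pj j).idem, ← mul_assoc, cj_eq.1 (cj_mon b ρ j), ← e', ← cj_en, en_ex, map_add, map_sub,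
      map_one, ← (un_io (L := ⊤) h3 trivial).xi, map_mul]
    simp only [mul_add, mul_sub, ← mul_assoc, a2, mul_one, zero_mul, sub_zero, add_zero, pj_mul a1]
  have key := fun τ (hτ : τ ∈ (T : Subgroup (Perm ι))) => by
    simpa only [mon_inv, mon_mul, mon_mem_wr] using
      hn (mon 1 τ) (mon_mem_wr.2 ⟨fun _ => one_mem _, hτ⟩)
  refine ⟨a, σ, rfl, Alt.normalizer_sylow_two_perm T (mem_normalizer_fintype fun τ hτ => (key τ hτ).2),
    fun i => ?_, fun i j => ?_⟩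
  · obtain ⟨i, rfl⟩ := σ.surjective i
    exact mem_normalizer_fintype fun b hb => ex_mem_wr.1 (mon_ex a σ i b ▸ hn _ (ex_mem_wr.2 hb))
  · obtain ⟨τ, hτ, e⟩ := sylow_transitive hι T (σ⁻¹ j) (σ⁻¹ i)
    simpa [show τ.symm (σ.symm i) = σ.symm j from τ.symm_apply_eq.2 e.symm] using (key τ hτ).1 i

variable {qi qj : SL(2, F)} {lam : SL(2, F) → ZMod 3} (h : Q8 Q qi qj lam)
include h

omit [Finite F] in
theorem Q8.lam_eq_iff {a b : SL(2, F)} (ha : a ∈ normalizer ((Q : Subgroup SL(2, F)) : Set SL(2, F)))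
    (hb : b ∈ normalizer ((Q : Subgroup SL(2, F)) : Set SL(2, F))) :
    a * b⁻¹ ∈ (Q : Subgroup SL(2, F)) ↔ lam a = lam b := by
  rw [← h.lam_eq _ (mul_mem ha (inv_mem hb)), h.lam_mul _ ha _ (inv_mem hb), h.lam_inv hb,
    add_neg_eq_zero]

omit [Finite F] in
theorem avg (hι : Fintype.card ι = 2 ^ k) {T : Sylow 2 (Perm ι)} {K : Subgroup (ff ι F).Isom}
    (hK : wr Q T ≤ K) {b γ : ι → SL(2, F)}
    (hb : ∀ i, b i ∈ normalizer ((Q : Subgroup SL(2, F)) : Set SL(2, F))) (hbK : mon b 1 ∈ K)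
    (hs : ∑ i, lam (b i) ≠ 0) (hγ : ∀ i, γ i ∈ normalizer ((Q : Subgroup SL(2, F)) : Set SL(2, F)))
    (hc : ∀ i j, γ i * (γ j)⁻¹ ∈ (Q : Subgroup SL(2, F))) : mon γ 1 ∈ K := by
  let M : AddSubmonoid (ι → ZMod 3) :=
    { carrier := {μ | ∃ b : ι → SL(2, F), (∀ i, b i ∈ normalizer ((Q : Subgroup SL(2, F)) :
        Set SL(2, F))) ∧ mon b 1 ∈ K ∧ ∀ i, μ i = lam (b i)}
      zero_mem' := ⟨1, fun _ => one_mem _, by rw [mon_one]; exact one_mem _, fun _ => h.lam_one.symm⟩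
      add_mem' := fun ⟨a, a1, a2, a3⟩ ⟨b, b1, b2, b3⟩ => ⟨a * b, fun i => mul_mem (a1 i) (b1 i),
        (dgm.map_mul a b).symm ▸ mul_mem a2 b2 |> id (α := dgm (a * b) ∈ K), fun i => by
          rw [Pi.add_apply, a3, b3, Pi.mul_apply, h.lam_mul _ (a1 i) _ (b1 i)]⟩ }
  haveI := Fintype.ofFinite (T : Subgroup (Perm ι))
  let ν : ι → ZMod 3 := ∑ σ : (T : Subgroup (Perm ι)), fun i => lam (b (σ.1 i))
  have a1 : ν ∈ M := sum_mem fun σ _ => ⟨fun i => b (σ.1 i), fun i => hb _, by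
    have := hK (mon_mem_wr.2 ⟨fun _ => one_mem _, σ.2⟩ : mon 1 σ.1 ∈ _)
    simpa [mon_mul, mon_inv] using mul_mem (mul_mem (inv_mem this) hbK) this, fun _ => rfl⟩
  have a2 : ∀ i j, ν j = ν i := fun i j => by
    obtain ⟨τ, hτ, rfl⟩ := sylow_transitive hι T i j
    simp only [ν, Finset.sum_apply]
    exact Equiv.sum_comp (Equiv.mulRight (⟨τ, hτ⟩ : (T : Subgroup (Perm ι)))) fun σ => lam (b (σ.1 i))
  obtain ⟨i, -, -⟩ := Finset.exists_ne_zero_of_sum_ne_zero hs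
  have a3 : ν i ≠ 0 := fun e => by
    have b1 : ∑ j, ν j = 0 := Finset.sum_eq_zero fun j _ => (a2 i j).trans e
    obtain ⟨m, hm⟩ := T.isPGroup'.exists_card_eq
    simp only [ν, Finset.sum_apply] at b1
    rw [Finset.sum_comm, Finset.sum_congr rfl fun σ _ => Equiv.sum_comp σ.1 fun i => lam (b i),
      Finset.sum_const, Finset.card_univ, ← Nat.card_eq_fintype_card, hm, nsmul_eq_mul] at b1
    have b2 : (2 : ZMod 3) ≠ 0 := by decide
    haveI := Fact.mk Nat.prime_three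
    exact mul_ne_zero (by push_cast; exact pow_ne_zero _ b2) hs b1
  obtain ⟨n, hn⟩ : ∃ n : ℕ, lam (γ i) = n • ν i := by
    generalize ν i = a, lam (γ i) = b at a3
    refine ⟨(b * a).val, ?_⟩
    revert a b; decide
  obtain ⟨c, c1, c2, c3⟩ := M.nsmul_mem a1 n
  have := mul_mem (hK (mon_mem_wr.2 ⟨fun j => (h.lam_eq_iff (hγ j) (c1 j)).2 (by
    rw [← c3, Pi.smul_apply, a2 i, ← hn, (h.lam_eq_iff (hγ j) (hγ i)).1 (hc j i)]), one_mem _⟩)) c2
  simpa [mon_mul] using this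

omit [Finite F] in
theorem comm_mem {T : Subgroup (Perm ι)} {a γ : ι → SL(2, F)} (σ : Perm ι)
    (ha : ∀ i, a i ∈ normalizer ((Q : Subgroup SL(2, F)) : Set SL(2, F)))
    (hγ : ∀ i, γ i ∈ normalizer ((Q : Subgroup SL(2, F)) : Set SL(2, F)))
    (hc : ∀ i j, γ i * (γ j)⁻¹ ∈ (Q : Subgroup SL(2, F))) :
    mon γ 1 * mon a σ * (mon γ 1)⁻¹ * (mon a σ)⁻¹ ∈ wr Q T := by
  simp only [mon_inv, mon_mul, mon_mem_wr, inv_one, one_mul, mul_one, mul_inv_cancel, Perm.coe_one,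
    id, Perm.coe_inv, apply_symm_apply, one_mem, and_true]
  intro i
  rw [h.lam_eq_iff (mul_mem (mul_mem (hγ _) (ha _)) (inv_mem (hγ _))) (ha _), h.lam_mul _
    (mul_mem (hγ _) (ha _)) _ (inv_mem (hγ _)), h.lam_mul _ (hγ _) _ (ha _), h.lam_inv (hγ _),
    (h.lam_eq_iff (hγ _) (hγ i)).1 (hc (σ.symm i) i)]
  ring

theorem pn_wr (hι : Fintype.card ι = 2 ^ k) {T : Sylow 2 (Perm ι)} {S : Sylow 2 (ff ι F).Isom}
    (hS : (S : Subgroup (ff ι F).Isom) = wr Q T) : PN (S : Subgroup (ff ι F).Isom) := by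
  have a1 : ∀ (γ : ι → SL(2, F)) σ, mon γ σ = mon γ 1 * mon 1 σ := fun γ σ => by simp [mon_mul]
  have a2 : ∀ σ ∈ (T : Subgroup (Perm ι)), mon (1 : ι → SL(2, F)) σ ∈ wr Q T := fun σ hσ =>
    mon_mem_wr.2 ⟨fun _ => one_mem _, hσ⟩
  rw [hS]
  refine ⟨fun L hL g hg => or_iff_not_imp_left.2 fun h0 l hl => ?_, fun g hg n hn => ?_⟩
  · obtain ⟨γ, σ, rfl, hσ, hγ, hc⟩ := normalizer_wr h.two hι T hg
    set K := L ⊔ L.map (MulAut.conj (mon γ σ)).toMonoidHom
    have hs := hL (a2 σ hσ)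
    have b1 : mon γ 1 ∉ K := fun e => h0 (a1 γ σ ▸ mul_mem e (mem_sup_left hs))
    have b2 : ∀ i j, ∀ u ∈ normalizer ((Q : Subgroup SL(2, F)) : Set SL(2, F)),
        ∀ v ∈ normalizer ((Q : Subgroup SL(2, F)) : Set SL(2, F)), ex i u * ex j v ∈ K →
          lam u + lam v = 0 := fun i j u hu v hv e => by_contra fun e' => by
      have c1 : ∀ i, ∀ u ∈ normalizer ((Q : Subgroup SL(2, F)) : Set SL(2, F)),
          (∀ k, (Pi.mulSingle i u : ι → SL(2, F)) k ∈ normalizer ((Q : Subgroup SL(2, F)) :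
            Set SL(2, F))) ∧ ∑ k, lam ((Pi.mulSingle i u : ι → SL(2, F)) k) = lam u := fun i u hu =>
        ⟨fun k => by
          obtain rfl | e := eq_or_ne k i
          exacts [by rwa [Pi.mulSingle_eq_same], by rw [Pi.mulSingle_eq_of_ne e]; exact one_mem _], by
          rw [Finset.sum_eq_single i (fun k _ e => by simp [e, h.lam_one]) (by simp)]; simp⟩
      refine b1 (avg h hι (hL.trans le_sup_left) (fun k => mul_mem ((c1 i u hu).1 k) ((c1 j v hv).1 k))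
        (by rw [ex_eq, ex_eq, mon_mul, mul_one] at e; exact e) ?_ hγ hc)
      rwa [Finset.sum_congr rfl fun k _ => h.lam_mul _ ((c1 i u hu).1 k) _ ((c1 j v hv).1 k),
        Finset.sum_add_distrib, (c1 i u hu).2, (c1 j v hv).2]
    have b3 : ∀ i, L.comap (ex i) ≤ Q := fun i =>
      (h.star (fun b hb => hL (ex_mem_wr.2 hb)) (hγ i)).resolve_left fun e => by
        have c1 : ex i (γ i) ∈ K := (sup_le (c := K.comap (ex i)) (comap_mono le_sup_left) (by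
          rintro _ ⟨b, hb, rfl⟩
          refine mem_sup_right ⟨_, mul_mem (mul_mem (inv_mem hs) hb) hs, ?_⟩
          exact Eq.trans (by simp [a1 γ σ, mul_assoc]) (mon_ex γ 1 i b))) e
        have c2 := (h.lam_eq _ (hγ i)).1 (by
          simpa [h.lam_one] using b2 i i _ (hγ i) 1 (one_mem _) (by simpa using c1))
        exact b1 (mem_sup_left (hL (mon_mem_wr.2 ⟨fun j => by
          simpa only [inv_mul_cancel_right] using mul_mem (hc j i) c2, one_mem _⟩)))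
    have b4 := mul_mem (mul_mem hs hl) (inv_mem hs)
    obtain ⟨a, ρ, e⟩ := exists_mon_of_mem h hL (fun i j u hu v hv e => b2 i j u hu v hv
      (mem_sup_left e)) hS b4
    have b5 := mul_mem (hL (comm_mem h ρ (a := a) (fun i => by
      obtain ⟨i, rfl⟩ := ρ.surjective i
      refine mem_normalizer_fintype fun b hb => b3 (ρ i) (show ex _ _ ∈ L from mon_ex a ρ i b ▸ ?_)
      exact e ▸ mul_mem (mul_mem b4 (hL (ex_mem_wr.2 hb))) (inv_mem b4)) hγ hc)) b4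
    simpa [← e, a1 γ σ, mul_assoc] using b5
  · obtain ⟨γ, σ, rfl, hσ, hγ, hc⟩ := normalizer_wr h.two hι T hg
    have hs := a2 σ hσ
    obtain ⟨a, ρ, e, -, ha, -⟩ := normalizer_wr h.two hι T
      (mul_mem (mul_mem (le_normalizer hs) hn) (inv_mem (le_normalizer hs)))
    simpa [← e, a1 γ σ, mul_assoc] using mul_mem (comm_mem h ρ ha hγ hc)
      (mul_mem hs ((mem_normalizer_iff.1 hn _).1 (inv_mem hs)))

omit h in
theorem pn_sp {m : ℕ} (hm : m = 2 ^ k) (ho : Odd (Nat.card F))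
    (P : Sylow 2 (symplecticGroup (Fin m) F)) : PN (P : Subgroup (symplecticGroup (Fin m) F)) := by
  haveI := Fintype.ofFinite F
  obtain ⟨Q⟩ : Nonempty (Sylow 2 SL(2, F)) := inferInstance
  obtain ⟨T⟩ : Nonempty (Sylow 2 (Perm (Fin m))) := inferInstance
  obtain ⟨S, hS⟩ := exists_sylow_wr ho Q T
  obtain ⟨e⟩ := (Form.sp_iso_aux _ _ _ (spForm m F) (ff (Fin m) F) (spForm_nondeg m) ff_nondeg rfl
    (by simp [finrank_pi_fintype]; ring)).2
  have hι : Fintype.card (Fin m) = 2 ^ k := by simp [hm]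
  refine PN.sylow ((spEquiv m F).trans e.isomEquiv) (S := S) ?_ P
  by_cases hq : Nat.card F % 8 = 3 ∨ Nat.card F % 8 = 5
  · obtain ⟨i, j, lam, h⟩ := exists_q8 hq Q
    exact pn_wr h hι hS
  have h1 := (S2431.result (F := F) (by rwa [← Nat.card_eq_fintype_card]) Q).2.1 (by
    have := Nat.odd_iff.1 ho
    rw [← Nat.card_eq_fintype_card]; omega)
  have h2 : normalizer ((S : Subgroup (ff (Fin m) F).Isom) : Set (ff (Fin m) F).Isom) ≤ S := by
    rw [hS]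
    intro n hn
    obtain ⟨a, σ, rfl, h3, h4, -⟩ := normalizer_wr (GLn.two_ne_zero_of_odd ho) hι T hn
    exact mon_mem_wr.2 ⟨h1 ▸ h4, h3⟩
  exact ⟨fun L hL g hg => .inl (mem_sup_left (hL (h2 hg))), fun g hg n hn =>
    h2 (mul_mem (mul_mem (mul_mem hg hn) (inv_mem hg)) (inv_mem hn))⟩

end Cfsg.Agent.Pron
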