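import Cfsg.Agent.Lib.Pron.Swap

/-!
Overgroups of the Sylow `2`-subgroup `Q₈ ≀ T` of the symplectic group.
-/

set_option autoImplicit false

namespace Cfsg.Agent.Pron

open Matrix Subgroup Forms Module Equiv
open scoped MatrixGroups

attribute [-simp] mulVec_fin_two

variable {F : Type*} [Field F] [Finite F] {ι : Type} [Fintype ι] [DecidableEq ι]
  {L : Subgroup (ff ι F).Isom} {Q : Sylow 2 SL(2, F)} {T : Subgroup (Perm ι)}

omit [Finite F] in
theorem mon_ex (a : ι → SL(2, F)) (σ : Perm ι) (i : ι) (b : SL(2, F)) :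
    mon a σ * ex i b * (mon a σ)⁻¹ = ex (σ i) (a (σ i) * b * (a (σ i))⁻¹) := by
  obtain ⟨c, h1, -, h3⟩ := exists_res (cj_mon a σ i)
  rw [h3, SL_eq_of_mulVec (a := c) (b := a (σ i)) fun u => by
    simpa [mon_single] using (congrFun (h1 u) (σ i)).symm]

theorem cj_rk {F V : Type*} [Field F] [AddCommGroup V] [Module F V] {f : Form (Param.sp F) V}
    (l : f.Isom) (a b : V) : cj l (rk f a b) = rk f (l.1 a) (l.1 b) :=
  LinearMap.ext fun v => by simp [cj_apply, rk_apply, Form.Isom.B_right]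

omit [Finite F] in
theorem Q8.lam_mid {qi qj : SL(2, F)} {lam : SL(2, F) → ZMod 3} (h : Q8 Q qi qj lam)
    {u w v : SL(2, F)} (hu : u ∈ (Q : Subgroup SL(2, F)))
    (hw : w ∈ normalizer ((Q : Subgroup SL(2, F)) : Set SL(2, F)))
    (hv : v ∈ (Q : Subgroup SL(2, F))) :
    u * w * v ∈ normalizer ((Q : Subgroup SL(2, F)) : Set SL(2, F)) ∧ lam (u * w * v) = lam w := by
  have h1 := le_normalizer hu
  have h2 := le_normalizer hv
  refine ⟨mul_mem (mul_mem h1 hw) h2, ?_⟩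
  rw [h.lam_mul _ (mul_mem h1 hw) _ h2, h.lam_mul _ h1 _ hw, (h.lam_eq _ h1).2 hu,
    (h.lam_eq _ h2).2 hv, zero_add, add_zero]

theorem res_mem (hL : wr Q T ≤ L) {l d : (ff ι F).Isom} (hl : l ∈ L) (hd : d ∈ L) {k : ℕ}
    (h4 : d ^ 2 ^ k = 1) {i : ι} (h : en d * cj l (pj i) = cj l (pj i) * en d) :
    1 - cj l (pj i) + en d * cj l (pj i) ∈ EL L := by
  obtain ⟨d, rfl⟩ := (MulAut.conj l).surjective d
  rw [← map_pow, map_eq_one_iff _ (MulEquiv.injective _)] at h4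
  rw [MulAut.conj_apply, mul_mem_cancel_right (inv_mem hl), mul_mem_cancel_left hl] at hd
  rw [MulAut.conj_apply, ← cj_en, ← map_mul, ← map_mul, (cj l).injective.eq_iff] at h
  obtain ⟨a, h1, h2, h3⟩ := exists_res (cj_eq.2 h)
  have h5 : ∀ (n : ℕ) v, (d ^ n).1 v i = (a ^ n).1 *ᵥ v i := fun n => by
    induction n with
    | zero => simp
    | succ n ih => intro v; rw [pow_succ', pow_succ', Form.Isom.mul_apply, h2, ih]; simp
  have hQ : (Q : Subgroup SL(2, F)) ≤ L.comap (ex i) := fun b hb => hL (ex_mem_wr.2 hb)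
  obtain ⟨c, hc, h6⟩ := Alt.exists_conj_mem_sylow Q (hQ.trans le_normalizer) (x := a)
    (mem_normalizer_fintype fun b hb => show ex i _ ∈ L from
      h3 b ▸ mul_mem (mul_mem hd hb) (inv_mem hd)) (k := k)
    (SL_eq_of_mulVec fun u => by simpa [h4] using (h5 (2 ^ k) (Pi.single i u)).symm)
  convert cj_mem hl (en_mem ((mem_normalizer_iff.1 hc a).2 (hQ h6))) using 1
  rw [MulAut.conj_apply, ← cj_en, ← map_mul, en_ex, map_add, map_sub, map_one]
  congr 2
  exact LinearMap.ext fun v => h1 _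

/-- the conjugates of the block projections -/
def DD (L : Subgroup (ff ι F).Isom) (y : End F (ι → Fin 2 → F)) : Prop :=
  ∃ l ∈ L, ∃ i, y = cj l (pj i)

omit [Finite F] in
theorem DD.conj {y} (h : DD L y) {l} (hl : l ∈ L) : DD L (cj l y) := by
  obtain ⟨m, hm, i, rfl⟩ := h
  exact ⟨_, mul_mem hl hm, i, rfl⟩

variable {qi qj : SL(2, F)} {lam : SL(2, F) → ZMod 3} (h : Q8 Q qi qj lam) (hL : wr Q T ≤ L)
  (hN : ∀ i j, ∀ u ∈ normalizer ((Q : Subgroup SL(2, F)) : Set SL(2, F)),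
    ∀ v ∈ normalizer ((Q : Subgroup SL(2, F)) : Set SL(2, F)), ex i u * ex j v ∈ L →
      lam u + lam v = 0)
include h hL hN

theorem DD.eq_pj {y} (hy : DD L y) {τ : (ff ι F).Isom} (hτ : τ ∈ wr Q T)
    (e : en τ = 1 - (2 : F) • y) : ∃ k, y = pj k := by
  obtain ⟨l, hl, i₀, rfl⟩ := hy
  have hτ' := hτ
  obtain ⟨a, σ, ha, -, rfl⟩ := hτ'
  obtain ⟨i, hi, h1⟩ | h1 := (swap_or h.two ((pl_pj i₀).cj l) e).symm
  swap
  · exact h1
  have hb := mon_ex a σ i
  have a0 := cj_eq.1 (cj_mon a σ i)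
  generalize mon a σ = τ at *
  have a1 : en τ * en τ = 1 := by
    simp only [e, mul_sub, sub_mul, mul_one, one_mul, mul_smul_comm, smul_mul_assoc,
      ((pl_pj i₀).cj l).idem]; module
  have a2 : τ⁻¹ = τ := inv_eq_of_mul_eq_one_right (en_inj (by rw [map_mul, a1, map_one]))
  have a3 : ∀ u : SL(2, F), u * u = -1 → (1 + u.1).det = 2 := fun u hu => by
    have := SL2.SL_trace_eq_zero_of_isScal_mul_self (fun e => by
      rcases SL2.SL_isScal_iff.1 e with rfl | rfl <;> exact h.ne_neg 1 (by simpa using hu))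
      (hu ▸ SL2.SL_isScal_iff.2 (.inr rfl))
    have h2 := u.2
    simp only [trace_fin_two, det_fin_two, Matrix.add_apply, one_apply_eq, one_apply_ne, ne_eq, zero_ne_one,
      one_ne_zero, not_false_eq_true] at this h2 ⊢
    linear_combination this + h2
  let w : SL(2, F) := ⟨(2 : F)⁻¹ • ((1 + qi.1) * (1 + qj.1)), by
    rw [det_smul, det_mul, a3 _ h.ii, a3 _ h.jj, Fintype.card_fin]; field_simp [h.two]⟩
  have a4 : (2 : F) • w.1 = 1 + qi.1 + qj.1 + qi.1 * qj.1 := by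
    rw [smul_inv_smul₀ h.two]; noncomm_ring
  obtain ⟨b1, b2⟩ := h.om a4
  have hk := mul_mem h.hi h.hj
  have hk' := mul_mem hk (neg_one_mem_sylow Q)
  have c1 := fun u hu => hL ((ex_mem_wr (i := i) (a := u)).2 hu)
  have c2 := un_io h.ii (c1 _ h.hi)
  have c3 := un_io h.jj (c1 _ h.hj)
  have c4 : io i qj.1 * io i qi.1 = -(io i qi.1 * io i qj.1) := by
    rw [io_mul, io_mul, ← SL2.SL_coe_mul, h.ij, SL2.SL_coe_neg, map_neg, SL2.SL_coe_mul]
  have c5 : pj i * (en τ * pj i) = 0 := by rw [a0, ← mul_assoc, pj_mul hi.symm, zero_mul]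
  have c6 := swap_id h.two (pl_pj i).idem a1 c5 c2.xi c2.ix c3.xi c3.ix c2.ii c3.ii c4 h1
    (W := io i w.1) (by rw [← map_smul, a4, map_add, map_add, map_add, io_one, io_mul])
  have c7 := (swap_id h.two (pl_pj i).idem a1 c5 c3.xi c3.ix c2.xi c2.ix c3.ii c2.ii
    (by rw [c4, neg_neg]) h1 (smul_inv_smul₀ h.two _)).1
  have c8 : ∀ u ∈ (Q : Subgroup SL(2, F)), ex i u * τ * ex i u * τ ∈ L := fun u hu =>
    mul_mem (mul_mem (mul_mem (c1 u hu) (hL hτ)) (c1 u hu)) (hL hτ)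
  simp only [← en_ex, ← map_mul] at c7
  have d1 := res_mem hL hl (c8 _ h.hj) (k := 2) (en_inj (by rw [map_pow, c7.2, map_one])) c7.1
  rw [io_mul, ← map_neg, ← SL2.SL_coe_mul, ← SL2.SL_coe_neg, ← mul_neg_one] at c6
  simp only [← en_ex, ← map_mul en] at c6
  have d2 := res_mem hL hl (c8 _ h.hi) (k := 2) (en_inj (by rw [map_pow, c6.1.2, map_one])) c6.1.1
  obtain ⟨m, hm, d3⟩ := c6.2 ▸ mul_mem (mul_mem d2 (en_mem (c1 _ hk))) d1
  rw [en_inj d3, ← map_mul, ← map_mul] at hm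
  have d4 := hb w
  rw [a2] at d4
  have d5 := hN _ _ _ (h.lam_mid hk b1 hk').1 _ (h.lam_mid (ha _) b1 (inv_mem (ha _))).1 (d4 ▸ hm)
  rw [(h.lam_mid hk b1 hk').2, (h.lam_mid (ha _) b1 (inv_mem (ha _))).2] at d5
  generalize lam w = t at b2 d5
  exact absurd d5 (by revert t; decide)

theorem DD.comm_of_pow {S : Sylow 2 (ff ι F).Isom} (hS : (S : Subgroup (ff ι F).Isom) = wr Q T) {x y} (hx : DD L x) (hy : DD L y)
    (e : ((1 - (2 : F) • x) * (1 - (2 : F) • y)) ^ 4 = 1) : x * y = y * x := by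
  have key : ∀ {x}, DD L x → ∃ z ∈ L, en z = 1 - (2 : F) • x ∧ z * z = 1 := by
    rintro _ ⟨l, hl, i, rfl⟩
    refine ⟨l * ex i (-1) * l⁻¹, mul_mem (mul_mem hl (hL (ex_mem_wr.2 (neg_one_mem_sylow Q))))
      (inv_mem hl), by rw [← cj_en, en_z, map_sub, map_one, map_smul], ?_⟩
    rw [conj_mul, ← map_mul]; simp
  obtain ⟨z, h1, h2, h3⟩ := key hx
  obtain ⟨z', h4, h5, h6⟩ := key hy
  obtain ⟨P, a1, a2, a3, a4⟩ := isPGroup_dihedral h3 h6 (k := 2)
    (en_inj (by rw [map_pow, map_mul, h2, h5, map_one]; exact e))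
  obtain ⟨d, hd, a5⟩ := Alt.exists_conj_le_sylow S (hS ▸ hL) (a4 L h1 h4) a1
  obtain ⟨i, hi⟩ := (hx.conj hd).eq_pj h hL hN (hS ▸ a5 z a2)
    (by rw [← cj_en, h2, map_sub, map_one, map_smul])
  obtain ⟨j, hj⟩ := (hy.conj hd).eq_pj h hL hN (hS ▸ a5 z' a3)
    (by rw [← cj_en, h5, map_sub, map_one, map_smul])
  exact (cj d).injective (by rw [map_mul, map_mul, hi, hj, pj_comm])

theorem not_tv (r : ι → Fin 2 → F) (h0 : r ≠ 0) : ¬ TV L r := by
  classical
  induction hn : (Finset.univ.filter (r · ≠ 0)).card using Nat.strong_induction_on generalizing r with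
  | _ n ih =>
  rintro ⟨c, hc, ht⟩
  obtain ⟨i, hi⟩ := Function.ne_iff.1 h0
  have c1 := fun u hu => hL ((ex_mem_wr (i := i) (a := u)).2 hu)
  obtain ⟨s, hs, h1⟩ : ∃ s, s i = 0 ∧ r = Pi.single i (r i) + s :=
    ⟨r - Pi.single i (r i), by simp, by simp⟩
  have h2 : ∀ v, (ff ι F).B v (Pi.single i (r i)) = (om F).B (v i) (r i) := fun v => by
    rw [Form.sp_symm, ff_single, ← Form.sp_symm]
  have h3 : ∀ k, s k ≠ 0 → r k ≠ 0 := fun k hk e => by
    obtain rfl | e' := eq_or_ne k i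
    exacts [hk hs, hk (by simpa [e, e'] using (congrFun h1 k).symm)]
  generalize r i = u at hi h1 h2
  subst h1
  obtain rfl | h4 := eq_or_ne s 0
  · let t : SL(2, F) := ⟨1 + c • vecMulVec u ![u 1, -u 0], by simp [det_fin_two]; ring⟩
    obtain ⟨l, hl, e⟩ := ht
    obtain rfl : l = ex i t := en_inj (e.trans (LinearMap.ext fun v => by
      rw [en_apply, ex_apply]
      simp only [add_zero, LinearMap.add_apply, End.one_apply,
        LinearMap.smul_apply, rk_apply, h2, ← Pi.single_smul, t, add_mulVec, one_mulVec,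
        add_sub_cancel_left]
      congr 2; ext k; fin_cases k <;> simp [om_B, mulVec_fin_two] <;> ring))
    have h5 := congrArg Subtype.val (h.no_tv (H := L.comap (ex i)) c1 (fun y hy hy' => (h.lam_eq y hy').1
      (by simpa [h.lam_one] using hN i i y hy' 1 (one_mem _) (by simpa using hy))) hl
      (by simp [t, trace_fin_two]; ring))
    have h6 := congrFun₂ h5 0 1
    have h7 := congrFun₂ h5 1 0
    simp [t, hc] at h6 h7
    exact hi (by ext k; fin_cases k <;> simp [h6, h7])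
  have h5 : (ff ι F).B s (Pi.single i u) = 0 := by simp [h2, hs]
  have h6 : (ff ι F).B (Pi.single i u) s = 0 := (ff ι F).B_eq_zero_symm h5
  obtain ⟨a, b1, b2⟩ := UH.tv (p := (2 * c) • rk (ff ι F) (Pi.single i u) s)
    (q := -(2 * c) • rk (ff ι F) s (Pi.single i u)) (C := 0) (by
      refine ⟨fun v w => ?_, ?_, ?_, ?_, ?_, ?_, mul_zero _, zero_mul _, zero_mul _, mul_zero _,
        cancel_mem (cj_mem (c1 _ (neg_one_mem_sylow Q)) ht) ((congrArg (· ∈ EL L) ?_).mp ht)⟩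
      · simp only [LinearMap.smul_apply, rk_apply, (ff ι F).sp_symm s w, Form.B_smul_left,
          Form.sp_B_smul_right]; ring
      all_goals refine LinearMap.ext fun v => ?_
      · simp [rk_apply, h2, pj_apply]
      · simp [rk_apply, pj_apply, hs]
      · simp [rk_apply, pj_apply]
      · simp [rk_apply, pj_apply, ff_single, hs]
      · simp [rk_apply, Form.sp_B_self]
      have : (ex i (-1 : SL(2, F))).1 (Pi.single i u + s) = s - Pi.single i u := by
        rw [← en_apply, en_z]; simp [pj_apply, hs]; module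
      simp only [map_add, map_one, map_smul, cj_rk, this, End.mul_apply, LinearMap.add_apply,
        LinearMap.sub_apply, End.one_apply, LinearMap.smul_apply, rk_apply, map_sub, add_zero,
        h5, h6, Form.sp_B_self]
      module)
    (pl_pj i) (un_io h.ii (c1 _ h.hi)) (un_io h.jj (c1 _ h.hj))
    (by rw [io_mul, io_mul, ← SL2.SL_coe_mul, h.ij, SL2.SL_coe_neg, map_neg, SL2.SL_coe_mul]) h.two
    (fun e => by
      obtain ⟨v, hv⟩ := (ff_nondeg (ι := ι)).exists_ne_zero (x := Pi.single i u) (by simpa using hi)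
      simpa [rk_apply, h.two, hc, h4, (ff ι F).sp_symm _ v, hv] using LinearMap.congr_fun e v)
  refine ih _ (hn ▸ Finset.card_lt_card ((Finset.ssubset_iff_of_subset fun k => ?_).2
    ⟨i, by simpa [hs] using hi, by simp [rk_apply, hs]⟩)) _ b1 rfl b2
  simp only [Finset.mem_filter, Finset.mem_univ, true_and]
  exact fun e => h3 k fun e' => e (by simp [rk_apply, e'])

theorem exists_mon_of_mem {S : Sylow 2 (ff ι F).Isom} (hS : (S : Subgroup (ff ι F).Isom) = wr Q T)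
    {l : (ff ι F).Isom} (hl : l ∈ L) : ∃ a σ, l = mon a σ := by
  have c1 := fun i u hu => hL ((ex_mem_wr (i := i) (a := u)).2 hu)
  refine exists_mon fun i => ((pl_pj i).cj l).eq_of_comm pl_pj sum_pj fun k => ?_
  refine comm_of ff_nondeg h.two h.nsq (pl_pj k) ((pl_pj i).cj l) (un_io h.ii (c1 _ _ h.hi))
    (un_io h.jj (c1 _ _ h.hj))
    (by rw [io_mul, io_mul, ← SL2.SL_coe_mul, h.ij, SL2.SL_coe_neg, map_neg, SL2.SL_coe_mul])
    (((un_io h.ii (c1 _ _ h.hi)).cj hl).z ((pl_pj i).cj l).idem) (not_tv h hL hN)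
    fun x hx => DD.comm_of_pow h hL hN hS ⟨1, one_mem _, k, rfl⟩ ?_
  obtain rfl | ⟨m, hm, rfl⟩ := hx
  exacts [⟨l, hl, i, rfl⟩, ⟨m, hm, k, rfl⟩]

end Cfsg.Agent.Pron
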