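import Cfsg.Agent.Lib.Pron.Gen
import Cfsg.Agent.S2225

/-!
Overgroups of a quaternion Sylow `2`-subgroup of `SL₂(q)`, `q ≡ ±3 mod 8`.
-/

set_option autoImplicit false

namespace Cfsg.Agent.Pron

open Matrix SL2 Subgroup
open scoped MatrixGroups

variable {F : Type*} [Field F]

/-- the facts on a quaternion Sylow subgroup of `SL₂` which are used -/
structure Q8 (Q : Sylow 2 SL(2, F)) (i j : SL(2, F)) (lam : SL(2, F) → ZMod 3) : Prop where
  two : (2 : F) ≠ 0
  nsq : ¬ IsSquare (2 : F)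
  hi : i ∈ (Q : Subgroup SL(2, F))
  hj : j ∈ (Q : Subgroup SL(2, F))
  ii : i * i = -1
  jj : j * j = -1
  ij : j * i = -(i * j)
  comm : ∀ s ∈ (Q : Subgroup SL(2, F)), ∀ t ∈ (Q : Subgroup SL(2, F)), s * t = t * s ∨ s * t = -(t * s)
  lam_mul : ∀ a ∈ normalizer ((Q : Subgroup SL(2, F)) : Set SL(2, F)),
    ∀ b ∈ normalizer ((Q : Subgroup SL(2, F)) : Set SL(2, F)), lam (a * b) = lam a + lam b
  lam_eq : ∀ a ∈ normalizer ((Q : Subgroup SL(2, F)) : Set SL(2, F)),
    lam a = 0 ↔ a ∈ (Q : Subgroup SL(2, F))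

theorem neg_one_mem_sylow (Q : Sylow 2 SL(2, F)) : (-1 : SL(2, F)) ∈ (Q : Subgroup SL(2, F)) :=
  mem_sylow_of_mem_normalizer (k := 1) Q (center_le_normalizer _ (SL_mem_center_iff'.2 (.inr rfl)))
    (by simp)

theorem exists_sq_neg_one [Finite F] (Q : Sylow 2 SL(2, F)) :
    ∃ i ∈ (Q : Subgroup SL(2, F)), i * i = -1 := by
  have h : (wt : SL(2, F)) * wt = -1 := SL_mul_self_of_trace_eq_zero (by simp [trace_fin_two])
  obtain ⟨d, -, hd⟩ := Alt.exists_conj_mem_sylow Q (D := ⊤) le_top (x := wt) trivial (k := 2)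
    (by simp [pow_succ, h])
  exact ⟨_, hd, by rw [conj_mul, h]; simp⟩

theorem exists_q8 [Finite F] (hq' : Nat.card F % 8 = 3 ∨ Nat.card F % 8 = 5) (S : Sylow 2 SL(2, F)) :
    ∃ i j lam, Q8 S i j lam := by
  have := Fintype.ofFinite F
  have ho : Odd (Nat.card F) := Nat.odd_iff.2 (by omega)
  have h2 := GLn.two_ne_zero_of_odd ho
  obtain ⟨hC, -, h3⟩ := S2431.result (F := F) (by rwa [← Nat.card_eq_fintype_card]) S
  rw [← Nat.card_eq_fintype_card] at h3
  replace h3 := h3 hq'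
  have hm := neg_one_mem_sylow S
  have hS8 : Nat.card (S : Subgroup SL(2, F)) = 2 ^ 3 := by
    obtain ⟨m, hm, hm'⟩ : ∃ m, Nat.card F ^ 2 - 1 = 2 ^ 3 * m ∧ ¬ 2 ∣ m := by
      rw [← Nat.div_add_mod (Nat.card F) 8]
      generalize Nat.card F / 8 = k
      rcases hq' with h | h <;> rw [h]
      · exact ⟨2 * (4 * k ^ 2 + 3 * k) + 1, by
          rw [Nat.sub_eq_iff_eq_add (Nat.one_le_pow _ _ (by omega))]; ring, by omega⟩
      · exact ⟨2 * (4 * k ^ 2 + 5 * k + 1) + 1, by
          rw [Nat.sub_eq_iff_eq_add (Nat.one_le_pow _ _ (by omega))]; ring, by omega⟩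
    refine Alt.card_sylow_of_eq S (m := Nat.card F * m) (by rw [card_SL2, hm]; ring) fun h => ?_
    rcases (Nat.Prime.dvd_mul Nat.prime_two).1 h with h | h
    · omega
    · exact hm' h
  have hZS : center SL(2, F) ≤ S := fun z hz => by
    rcases SL_mem_center_iff'.1 hz with rfl | rfl
    exacts [one_mem _, hm]
  have hc : ∀ s ∈ (S : Subgroup SL(2, F)), ∀ t ∈ (S : Subgroup SL(2, F)),
      s * t = t * s ∨ s * t = -(t * s) := by
    intro s hs t ht
    have h4 : Nat.card ((S : Subgroup SL(2, F)) ⧸ (center SL(2, F)).subgroupOf S) = 2 ^ 2 := by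
      have h5 := card_eq_card_quotient_mul_card_subgroup ((center SL(2, F)).subgroupOf S)
      rw [hS8, Nat.card_congr (subgroupOfEquivOfLe hZS).toEquiv, card_center_SL_odd h2] at h5
      omega
    have h5 := (IsPGroup.isMulCommutative_of_card_eq_prime_sq h4).is_comm.comm
      (QuotientGroup.mk ⟨t, ht⟩) (QuotientGroup.mk ⟨s, hs⟩)
    rw [← QuotientGroup.mk_mul, ← QuotientGroup.mk_mul, QuotientGroup.eq, mem_subgroupOf,
      SL_mem_center_iff'] at h5
    simpa only [coe_mul, coe_inv, inv_mul_eq_iff_eq_mul, mul_one, mul_neg_one] using h5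
  obtain ⟨a, ha, b, hb, hab⟩ : ∃ a ∈ (S : Subgroup SL(2, F)), ∃ b ∈ (S : Subgroup SL(2, F)),
      b * a ≠ a * b := by
    by_contra! h
    have h5 := card_dvd_of_le (show (S : Subgroup SL(2, F)) ≤ center _ from
      hC ▸ fun x hx y hy => h _ hx _ hy)
    rw [hS8, card_center_SL_odd h2] at h5
    omega
  have hsq : ∀ c ∈ (S : Subgroup SL(2, F)), ∀ n, n * c ≠ c * n → c * c = -1 := by
    intro c hcS n hnc
    have h4 : IsScal (c * c).1 := by
      rw [← SL_mem_center_iff, ← hC]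
      intro s hs
      rcases hc s hs c hcS with h | h
      · rw [← mul_assoc, h, mul_assoc, h, mul_assoc]
      · rw [← mul_assoc, h, neg_mul, mul_assoc, h, mul_neg, neg_neg, mul_assoc]
    exact SL_mul_self_of_trace_eq_zero
      (SL_trace_eq_zero_of_isScal_mul_self (fun h => hnc (SL_ext (h.comm _))) h4)
  set N := normalizer ((S : Subgroup SL(2, F)) : Set SL(2, F))
  have h4 : Nat.card (N ⧸ (S : Subgroup SL(2, F)).subgroupOf N) = 3 := by
    have h5 := card_eq_card_quotient_mul_card_subgroup ((S : Subgroup SL(2, F)).subgroupOf N)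
    rw [h3, Nat.card_congr (subgroupOfEquivOfLe le_normalizer).toEquiv] at h5
    exact (Nat.eq_of_mul_eq_mul_right Nat.card_pos h5).symm
  haveI := Fact.mk Nat.prime_three
  let e := mulEquivOfPrimeCardEq (p := 3) (G' := Multiplicative (ZMod 3)) h4 (by simp)
  classical
  refine ⟨a, b, fun x => if h : x ∈ N then (e (QuotientGroup.mk ⟨x, h⟩)).toAdd else 0, h2,
    by rw [FiniteField.isSquare_two_iff, ← Nat.card_eq_fintype_card]; omega, ha, hb,
    hsq a ha b hab, hsq b hb a hab.symm, (hc b hb a ha).resolve_left hab, hc,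
    fun x hx y hy => ?_, fun x hx => ?_⟩
  · rw [dif_pos hx, dif_pos hy, dif_pos (mul_mem hx hy), ← toAdd_mul, ← map_mul]; rfl
  · rw [dif_pos hx, toAdd_eq_zero, map_eq_one_iff _ e.injective, QuotientGroup.eq_one_iff]; rfl

namespace Q8

variable {Q : Sylow 2 SL(2, F)} {i j : SL(2, F)} {lam : SL(2, F) → ZMod 3} (h : Q8 Q i j lam)
include h

theorem ne_neg (a : SL(2, F)) : a ≠ -a := fun e =>
  SL_neg_one_ne_one h.two (mul_left_cancel (a := a) (by rw [mul_neg, mul_one, ← e]))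

theorem kk : i * j * (i * j) = -1 := by
  rw [mul_assoc, ← mul_assoc j, h.ij, neg_mul, mul_neg, mul_assoc, h.jj, ← mul_assoc, h.ii]; simp

theorem lam_one : lam 1 = 0 := (h.lam_eq _ (one_mem _)).2 (one_mem _)

theorem lam_inv {a : SL(2, F)} (ha : a ∈ normalizer ((Q : Subgroup SL(2, F)) : Set SL(2, F))) :
    lam a⁻¹ = -lam a := by
  rw [eq_neg_iff_add_eq_zero, ← h.lam_mul _ (inv_mem ha) _ ha, inv_mul_cancel, h.lam_one]

theorem lam_pow {a : SL(2, F)} (ha : a ∈ normalizer ((Q : Subgroup SL(2, F)) : Set SL(2, F)))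
    (n : ℕ) : lam (a ^ n) = n * lam a := by
  induction n with
  | zero => simp [h.lam_one]
  | succ n ih => rw [pow_succ, h.lam_mul _ (pow_mem ha n) _ ha, ih]; push_cast; ring

theorem mem_closure {s : SL(2, F)} (hs : s ∈ (Q : Subgroup SL(2, F))) : s ∈ closure {i, j} := by
  have a1 : i ∈ closure {i, j} := subset_closure (by simp)
  have a2 : j ∈ closure {i, j} := subset_closure (by simp)
  have a3 : ∀ s : SL(2, F), s * i = i * s → s * j = j * s → s ∈ closure {i, j} := fun s h1 h2 => by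
    rcases SL_isScal_iff.1 (by_contra fun e => h.ne_neg (i * j) ((SL_ext (comm_of_comm e
      (congrArg Subtype.val h1.symm) (congrArg Subtype.val h2.symm))).trans h.ij)) with rfl | rfl
    exacts [one_mem _, h.ii ▸ mul_mem a1 a1]
  have a4 : ∀ s : SL(2, F), s * i = i * s → (s * j = j * s ∨ s * j = -(j * s)) → s ∈ closure {i, j} :=
    fun s h1 h2 => h2.elim (a3 s h1) fun h2 => (mul_mem_cancel_left a1).1 (a3 _
      (by rw [mul_assoc, h1]) (by rw [mul_assoc, h2, ← mul_assoc j, h.ij]; simp [mul_assoc]))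
  rcases h.comm s hs i h.hi with e | e
  · exact a4 s e (h.comm s hs j h.hj)
  · exact (mul_mem_cancel_left a2).1 (a4 _ (by rw [mul_assoc, e, mul_neg, ← mul_assoc, h.ij]; simp [mul_assoc])
      (h.comm _ (mul_mem h.hj hs) j h.hj))

theorem om [Finite F] {w : SL(2, F)} (hw : (2 : F) • w.1 = 1 + i.1 + j.1 + i.1 * j.1) :
    w ∈ normalizer ((Q : Subgroup SL(2, F)) : Set SL(2, F)) ∧ lam w ≠ 0 := by
  have e1 : i.1 * i.1 = -1 := congrArg Subtype.val h.ii
  have e2 : j.1 * j.1 = -1 := congrArg Subtype.val h.jj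
  have e3 : j.1 * i.1 = -(i.1 * j.1) := congrArg Subtype.val h.ij
  have e4 : ∀ x, j.1 * (i.1 * x) = -(i.1 * (j.1 * x)) := fun x => by
    rw [← mul_assoc, e3, neg_mul, mul_assoc]
  have e5 : ∀ x, i.1 * (i.1 * x) = -x := fun x => by rw [← mul_assoc, e1, neg_one_mul]
  have a1 : w * i = j * w := SL_ext (smul_right_injective _ h.two (by
    change (2 : F) • (w.1 * i.1) = (2 : F) • (j.1 * w.1)
    rw [← smul_mul_assoc, ← mul_smul_comm, hw]
    simp only [mul_add, add_mul, mul_assoc, e1, e2, e3, e4, e5, mul_neg, mul_one, one_mul, neg_neg]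
    abel))
  have a2 : w * j = i * j * w := SL_ext (smul_right_injective _ h.two (by
    change (2 : F) • (w.1 * j.1) = (2 : F) • (i.1 * j.1 * w.1)
    rw [← smul_mul_assoc, ← mul_smul_comm, hw]
    simp only [mul_add, add_mul, mul_assoc, e1, e2, e3, e4, e5, mul_neg, mul_one, one_mul, neg_neg]
    abel))
  have a3 : w ∈ normalizer ((Q : Subgroup SL(2, F)) : Set SL(2, F)) :=
    mem_normalizer_fintype fun s hs => (closure_le ((Q : Subgroup SL(2, F)).comap
      (MulAut.conj w).toMonoidHom)).2 (Set.insert_subset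
        (show w * i * w⁻¹ ∈ (Q : Subgroup SL(2, F)) by simpa only [a1, mul_inv_cancel_right] using h.hj)
        (Set.singleton_subset_iff.2 (show w * j * w⁻¹ ∈ (Q : Subgroup SL(2, F)) by
          simpa only [a2, mul_inv_cancel_right] using mul_mem h.hi h.hj))) (h.mem_closure hs)
  refine ⟨a3, fun e => h.ne_neg (i * j) ?_⟩
  rcases h.comm w ((h.lam_eq w a3).1 e) i h.hi with e | e <;> rw [a1] at e
  · rw [← h.ij, mul_right_cancel e]
  · rw [← h.ij, mul_right_cancel (e.trans (neg_mul _ _).symm)]; simp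

variable [Finite F]

theorem star {H : Subgroup SL(2, F)} (hS : (Q : Subgroup SL(2, F)) ≤ H) {g : SL(2, F)}
    (hg : g ∈ normalizer ((Q : Subgroup SL(2, F)) : Set SL(2, F))) :
    g ∈ H ⊔ H.map (MulAut.conj g).toMonoidHom ∨ H ≤ Q := by
  by_contra! h4
  obtain ⟨h4, h5⟩ := h4
  set L := H ⊔ H.map (MulAut.conj g).toMonoidHom
  have hSL : (Q : Subgroup SL(2, F)) ≤ L := hS.trans le_sup_left
  have hN : ∀ y ∈ L, y ∈ normalizer ((Q : Subgroup SL(2, F)) : Set SL(2, F)) →
      y ∈ (Q : Subgroup SL(2, F)) := fun y hy hy' => by_contra fun e => by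
    obtain ⟨n, hn⟩ : ∃ n : ℕ, lam g = n * lam y := by
      have := mt (h.lam_eq y hy').1 e
      generalize lam y = a, lam g = b at this
      refine ⟨(b * a).val, ?_⟩
      revert a b; decide
    refine h4 ((mul_mem_cancel_left (inv_mem (pow_mem hy n))).1 (hSL ((h.lam_eq _
      (mul_mem (inv_mem (pow_mem hy' n)) hg)).1 ?_)))
    rw [h.lam_mul _ (inv_mem (pow_mem hy' n)) _ hg, h.lam_inv (pow_mem hy' n), h.lam_pow hy', hn,
      neg_add_cancel]
  have hm := neg_one_mem_sylow Q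
  have hab : j * i ≠ i * j := fun e => h.ne_neg _ (e.symm.trans h.ij)
  obtain ⟨x, hx, h6, h7, h8⟩ := S2225.exists_odd_comm h.two Q hS h5 hm h.comm
    (fun y hy => hN y (mem_sup_left hy)) h.hi h.hj h.ii h.jj h.kk
  have hxL : x ∈ L := mem_sup_left hx
  have hxL' : g * x * g⁻¹ ∈ L := mem_sup_right ⟨x, hx, rfl⟩
  refine h4 (hSL ?_)
  rcases h8 with h8 | h8 | h8
  · exact S2225.mem_of_odd_comm h.two Q hSL hm h.comm hN h.hi h.hj h.ii hab hg hxL hxL' h6 h7 h8
  · exact S2225.mem_of_odd_comm h.two Q hSL hm h.comm hN h.hj h.hi h.jj hab.symm hg hxL hxL' h6 h7 h8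
  · exact S2225.mem_of_odd_comm h.two Q hSL hm h.comm hN (mul_mem h.hi h.hj) h.hi h.kk
      (fun e => hab (mul_left_cancel (e.trans (mul_assoc _ _ _))).symm) hg hxL hxL' h6 h7 h8

theorem no_tv {H : Subgroup SL(2, F)} (hS : (Q : Subgroup SL(2, F)) ≤ H)
    (hN : ∀ y ∈ H, y ∈ normalizer ((Q : Subgroup SL(2, F)) : Set SL(2, F)) →
      y ∈ (Q : Subgroup SL(2, F))) {t : SL(2, F)} (ht : t ∈ H) (h1 : t.1.trace = 2) : t = 1 := by
  obtain ⟨p, hp, _⟩ := exists_char (F := F)
  haveI := Fact.mk hp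
  have hp2 : p ≠ 2 := by rintro rfl; exact h.two (CharP.cast_eq_zero F 2)
  obtain ⟨R, hR⟩ := (Q.subtype hS).isPGroup'.nonempty_fixed_point_of_prime_not_dvd_card (Sylow p H)
    (odd_card_sylow (c := ⟨-1, hS (neg_one_mem_sylow Q)⟩)
      (mem_center_iff.2 fun g => Subtype.ext (by simp)) (Q.subtype hS) (neg_one_mem_sylow Q)
      (fun n hn s hs => (h.comm n (hN n n.2 (mem_normalizer_fintype fun y hy =>
        (mem_normalizer_iff.1 hn ⟨y, hS hy⟩).1 hy)) s hs).imp Subtype.ext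
          fun e => Subtype.ext (by simpa using e)) hp2)
  obtain ⟨u, -, hu⟩ := Alt.exists_conj_mem_sylow R (D := ⊤) le_top (x := ⟨t, ht⟩) trivial (k := 1)
    (Subtype.ext (by simpa using (SL_pow_char_eq_one_iff p t).2 h1))
  by_contra h0
  obtain ⟨z, hz, b1, b2⟩ := exists_central_of_isPGroup R.isPGroup' fun e => by
    rw [e, mem_bot, conj_eq_one_iff] at hu
    exact h0 (congrArg Subtype.val hu)
  obtain ⟨b3, b4⟩ := (SL_orderOf_eq_char_iff p z.1).1 ((orderOf_coe z).trans b1)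
  have key : ∀ c ∈ (Q : Subgroup SL(2, F)), c * c = -1 → c * z * c⁻¹ = z.1⁻¹ := fun c hc hcc => by
    have c1 := b2 _ ((mem_normalizer_iff.1
      (Sylow.smul_eq_iff_mem_normalizer.1 (hR ⟨⟨c, hS hc⟩, hc⟩)) z).1 hz)
    obtain ⟨a, b, c2⟩ := (comm_iff b3 _).1 (congrArg (fun x : H => x.1.1) c1)
    change (c * z.1 * c⁻¹).1 = _ at c2
    have c3 := congrArg trace c2
    rw [SL_trace_conj, trace_smul_one_add, b4] at c3
    have c4 : z.1 = c * (c * z * c⁻¹) * c⁻¹ := by
      rw [← mul_assoc, ← mul_assoc, hcc, mul_assoc, ← _root_.mul_inv_rev, hcc]; simp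
    have c5 := congrArg Subtype.val c4
    rw [SL_coe_mul, SL_coe_mul, c2, mul_add, add_mul, mul_smul_comm, mul_smul_comm, smul_mul_assoc,
      smul_mul_assoc, mul_one, ← SL_coe_mul, ← SL_coe_mul, ← SL_coe_mul, c2, mul_inv_cancel,
      smul_add, smul_smul, smul_smul, ← add_assoc, SL_coe_one, ← add_smul] at c5
    have c6 := (smul_one_add_inj b3 (a := 0) (b := 1) (by simpa using c5)).2
    have c7 : a = 1 - b := mul_left_cancel₀ h.two (by linear_combination -c3)
    rcases mul_self_eq_one_iff.1 c6.symm with rfl | rfl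
    · have c8 : c * z.1 = z.1 * c := mul_inv_eq_iff_eq_mul.1 (SL_ext (by simpa [c7] using c2))
      have c9 := SL_trace_sq_eq_of_mem b3 (by rw [b4]; norm_num) (mem_cent_iff.2 c8)
      rw [SL_trace_eq_zero_of_isScal_mul_self (fun e => by
        rcases SL_isScal_iff.1 e with rfl | rfl <;> exact h.ne_neg 1 (by simpa using hcc))
        (hcc ▸ SL_isScal_iff.2 (.inr rfl))] at c9
      exact absurd (by linear_combination -c9) (mul_ne_zero h.two h.two)
    · exact SL_ext (by rw [c2, SL_coe_inv', b4, c7]; module)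
  have c1 := key _ (mul_mem h.hi h.hj) h.kk
  rw [_root_.mul_inv_rev, mul_assoc, mul_assoc, ← mul_assoc z.1, ← mul_assoc j, ← mul_assoc j,
    key j h.hj h.jj, ← mul_assoc, ← conj_inv, key i h.hi h.ii, inv_inv, eq_inv_iff_mul_eq_one] at c1
  exact b3 (SL_isScal_iff.2 (SL_sq_eq_one h.two c1))

end Q8

end Cfsg.Agent.Pron
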