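import Cfsg.Agent.Lib.Pron.Mon

/-!
The conjugates of the block involutions which lie in the wreath product.
-/

set_option autoImplicit false

namespace Cfsg.Agent.Pron

open Matrix Subgroup Forms Module Equiv
open scoped MatrixGroups

attribute [-simp] mulVec_fin_two

variable {F : Type*} [Field F] {ι : Type} [Fintype ι] [DecidableEq ι]

/-- a matrix acting on one coordinate plane -/
def io (i : ι) : Matrix (Fin 2) (Fin 2) F →ₗ[F] End F (ι → Fin 2 → F) where
  toFun a := LinearMap.single F _ i ∘ₗ a.mulVecLin ∘ₗ LinearMap.proj i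
  map_add' a b := LinearMap.ext fun v => by simp [Pi.single_add]
  map_smul' c a := LinearMap.ext fun v => by simp [Pi.single_smul]

theorem io_apply (i : ι) (a : Matrix (Fin 2) (Fin 2) F) (v : ι → Fin 2 → F) :
    io i a v = Pi.single i (a *ᵥ v i) := rfl

theorem io_mul (i : ι) (a b : Matrix (Fin 2) (Fin 2) F) : io i a * io i b = io i (a * b) :=
  LinearMap.ext fun v => by simp [io_apply]

theorem io_one (i : ι) : io i (1 : Matrix (Fin 2) (Fin 2) F) = pj i :=
  LinearMap.ext fun v => by simp [io_apply, pj_apply]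

theorem en_ex (i : ι) (a : SL(2, F)) : en (ex i a) = 1 - pj i + io i a.1 :=
  LinearMap.ext fun v => by
    simp [en_apply, ex_apply, io_apply, pj_apply, Pi.single_sub]; abel

theorem en_z (i : ι) : en (ex i (-1 : SL(2, F))) = 1 - (2 : F) • pj i := by
  rw [en_ex, SL2.SL_coe_neg, map_neg, SL2.SL_coe_one, io_one]; module

theorem pl_pj (i : ι) : Pl (ff ι F) (pj i) :=
  ⟨Pi.single i ![1, 0], Pi.single i ![0, 1], by simp [ff_single, om_B], fun v => by
    rw [Form.sp_symm, ff_single, Form.sp_symm _ (Pi.single i _), ff_single, pj_apply,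
      ← Pi.single_smul, ← Pi.single_smul, ← Pi.single_sub]
    congr 1; ext k; fin_cases k <;> simp [om_B]⟩

theorem sum_pj : ∑ i, (pj i : End F (ι → Fin 2 → F)) = 1 :=
  LinearMap.ext fun v => by simp [pj_apply, Finset.univ_sum_single]

omit [Fintype ι] in
theorem pj_mul {i k : ι} (h : i ≠ k) : (pj i * pj k : End F (ι → Fin 2 → F)) = 0 :=
  LinearMap.ext fun v => by simp [pj_apply, h]

theorem pj_comm (i k : ι) : (pj i * pj k : End F (ι → Fin 2 → F)) = pj k * pj i := by
  obtain rfl | h := eq_or_ne i k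
  exacts [rfl, by rw [pj_mul h, pj_mul h.symm]]

theorem un_io {L : Subgroup (ff ι F).Isom} {i : ι} {a : SL(2, F)} (ha : a * a = -1)
    (h : ex i a ∈ L) : Un L (pj i) (io i a.1) :=
  ⟨by rw [← io_one, io_mul, one_mul], by rw [← io_one, io_mul, mul_one],
    by rw [io_mul, ← SL2.SL_coe_mul, ha, SL2.SL_coe_neg, map_neg, SL2.SL_coe_one, io_one],
    en_ex i a ▸ en_mem h⟩

instance finite_isom [Finite F] : Finite (ff ι F).Isom :=
  Finite.of_injective (fun g => (g.1 : (ι → Fin 2 → F) → _)) fun _ _ e => Form.Isom.ext (congrFun e)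

theorem swap_or (h2 : (2 : F) ≠ 0) {y : End F (ι → Fin 2 → F)} (hy : Pl (ff ι F) y)
    {a : ι → SL(2, F)} {σ : Perm ι} (h : en (mon a σ) = 1 - (2 : F) • y) :
    (∃ k, y = pj k) ∨ ∃ i, σ i ≠ i ∧ (2 : F) • y = (1 - en (mon a σ)) * pj i * (1 - en (mon a σ)) := by
  have a1 := fun i => cj_eq.1 (cj_mon a σ i)
  by_cases e : ∀ i, σ i = i
  · refine .inl (hy.eq_of_comm pl_pj sum_pj fun i => smul_right_injective _ h2 ?_)
    have := a1 i
    rw [e, h, mul_sub, sub_mul, mul_one, one_mul, sub_right_inj] at this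
    simpa using this.symm
  obtain ⟨i, hi⟩ := not_forall.1 e
  obtain ⟨c, h3, h4⟩ := (pl_pj i).both hy
  have a2 : (1 - 2 * c) • (pj i : End F _) = 0 := by
    have := congrArg (pj i * ·) (a1 i)
    simp only [← mul_assoc, pj_mul (Ne.symm hi), zero_mul] at this
    rw [← this, h, mul_sub, sub_mul, mul_one, (pl_pj i).idem, mul_smul_comm, smul_mul_assoc, h3]
    module
  refine .inr ⟨i, hi, ?_⟩
  rw [h, sub_sub_cancel, smul_mul_assoc, smul_mul_assoc, mul_smul_comm, h4]
  linear_combination (norm := module)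
    (2 * ((smul_eq_zero.1 a2).resolve_right (pl_pj i).ne_zero)) • y

theorem swap_id {R : Type*} [Ring R] [Algebra F R] (h2 : (2 : F) ≠ 0) {x t I J y W : R}
    (xx : x * x = x) (tt : t * t = 1) (xtx : x * (t * x) = 0) (xI : x * I = I) (Ix : I * x = I)
    (xJ : x * J = J) (Jx : J * x = J) (II : I * I = -x) (JJ : J * J = -x) (JI : J * I = -(I * J))
    (hy : (2 : F) • y = (1 - t) * x * (1 - t)) (hW : (2 : F) • W = x + I + J + I * J) :
    ((1 - x + I) * t * (1 - x + I) * t * y = y * ((1 - x + I) * t * (1 - x + I) * t) ∧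
      ((1 - x + I) * t * (1 - x + I) * t) ^ 2 ^ 2 = 1) ∧
    (1 - y + (1 - x + I) * t * (1 - x + I) * t * y) * (1 - x + I * J) *
      (1 - y + (1 - x + J) * t * (1 - x + J) * t * y) =
    (1 - x + I * J) * (1 - x + W) * (1 - x + -(I * J)) * (t * (1 - x + W) * t) := by
  obtain rfl : y = (2 : F)⁻¹ • ((1 - t) * x * (1 - t)) := by rw [← hy, inv_smul_smul₀ h2]
  obtain rfl : W = (2 : F)⁻¹ • (x + I + J + I * J) := by rw [← hW, inv_smul_smul₀ h2]
  have b : ∀ {a b c : R}, a * b = c → ∀ t, a * (b * t) = c * t := fun h c => by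
    rw [← mul_assoc, h]
  have c : ∀ {A B : R}, A * x = A → x * B = B → A * (t * B) = 0 ∧ ∀ s, A * (t * (B * s)) = 0 :=
    fun {A B} h1 h3 => by
      have : A * (t * B) = 0 := by
        rw [← h1, ← h3, mul_assoc, ← mul_assoc t, ← mul_assoc x, xtx, zero_mul, mul_zero]
      exact ⟨this, fun s => by rw [← mul_assoc t, ← mul_assoc, this, zero_mul]⟩
  have d : ∀ {I : R}, x * I = I → I * x = I →
      (1 - x + I) * t * (1 - x + I) * t = 1 - x - t * x * t + I + t * I * t := fun xI Ix => by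
    simp only [mul_add, add_mul, mul_sub, sub_mul, mul_one, one_mul, mul_assoc, tt, c xx xx, c xx xI,
      c Ix xx, c Ix xI]
    abel
  rw [d xI Ix, d xJ Jx]
  refine ⟨⟨?_, ?_⟩, ?_⟩ <;>
  simp only [mul_add, add_mul, mul_sub, sub_mul, mul_one, one_mul, mul_assoc, tt, c xx xx, c xx xI,
    c Ix xx, c Ix xI, c xx xJ, c Jx xx, c Jx xJ, c Ix xJ, c Jx xI, b tt, xx, b xx, xI, b xI, Ix,
    b Ix, xJ, b xJ, Jx, b Jx, II, b II, JJ, b JJ, JI, b JI, mul_smul_comm, smul_mul_assoc, mul_neg,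
    neg_mul, neg_neg, mul_zero, zero_mul, pow_succ, pow_zero, show 2 ^ 2 = 4 by rfl] <;>
  match_scalars <;> (try field_simp) <;> ring

end Cfsg.Agent.Pron
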